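import Cfsg.Agent.SM.O8.Two.Loc_m3
import Cfsg.Agent.SM.Mat.Geo_m3
import Cfsg.Agent.StandardComponent.FiRedVec_mg_m3
import Cfsg.Agent.StdO8.Gen_m3
import Cfsg.Agent.H320.O8.Arith
import Cfsg.Agent.FastGrp
import Cfsg.Agent.Prune
set_option linter.all false
prune_inst 0x7f00000000000000000000000000000000000000000000000000000000000000000000000000000000000000000000000000000000000000000000000000000000000000000000000000000000000000003fffffffffffffffffffffffffffbeffbdfffffffd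
open scoped Cfsg.Agent.FastGrp

/-!
# SM (S3570), socle `Ω⁺₈(2)`: the elements of order five, `boxC5_of : BoxNt → BoxC5` (helper55)
-/

set_option autoImplicit false
set_option linter.unusedVariables false
set_option linter.style.haveILetI false

namespace Cfsg.Agent.SM.O8.Two

namespace Five

open Subgroup
open Cfsg.Agent.StdO8.Model Cfsg.Agent.StdO8.Code
open Cfsg.Agent.H320.O8 (LV decE cc_eq_zero_iff)
open Cfsg.Agent.LieClassical.OrthCore (refl refl_mem_O)

theorem dvd_of_hom {G K : Type*} [Group G] [Group K] (φ : G →* K) {n : ℕ} (h : Nat.card φ.ker ∣ n) :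
    Nat.card G ∣ n * Nat.card K := by
  rw [← card_mul_index φ.ker, index_ker]
  exact Nat.mul_dvd_mul h (card_subgroup_dvd_card _)

theorem card_cent {G : Type*} [Group G] (e : G ≃* G) (y : G) :
    Nat.card (centralizer ({e y} : Set G)) = Nat.card (centralizer ({y} : Set G)) :=
  (Nat.card_congr (Equiv.subtypeEquiv e.toEquiv fun a => by
    show a ∈ centralizer ({y} : Set G) ↔ e a ∈ centralizer ({e y} : Set G)
    rw [mem_centralizer_singleton_iff, mem_centralizer_singleton_iff, ← map_mul, ← map_mul, e.injective.eq_iff])).symm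

theorem cent_pow {G : Type*} [Group G] {x : G} (h : x ^ 5 = 1) {i : Fin 5} (hi : i ≠ 0) :
    centralizer ({x ^ i.1} : Set G) = centralizer {x} := by
  have e : (x ^ i.1) ^ (i.1 ^ 3) = x := by
    rw [← pow_mul, pow_eq_pow_mod _ h, show i.1 * i.1 ^ 3 % 5 = 1 by revert i; decide, pow_one]
  ext g
  simp only [mem_centralizer_singleton_iff]
  exact ⟨fun k => e ▸ Commute.pow_right k _, fun k => Commute.pow_right k _⟩

theorem mem_nrm {G : Type*} [Group G] [Finite G] {x g : G} (h : g * x * g⁻¹ ∈ zpowers x) : g ∈ normalizer (zpowers x : Set G) :=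
  mem_normalizer_fintype (by
    rintro _ ⟨n, rfl⟩
    exact conj_zpow (a := g) (b := x) (i := n) ▸ zpow_mem h n)

/-- the two generators of a Sylow 5-subgroup and an involution which swaps them -/
def wa : List (ℕ × ℕ) := [(1, 68), (16, 140)]
def wb : List (ℕ × ℕ) := [(2, 76), (32, 136)]
def ws : List (ℕ × ℕ) := [(3, 48), (8, 4)]
noncomputable def a : Om := word wa
noncomputable def b : Om := word wb
noncomputable def s : Om := word ws

theorem ap_mul (g h : Om) (v : V) : ap (g * h) v = ap g (ap h v) := rfl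
theorem ap_inv (g : Om) (v : V) : ap g (ap g⁻¹ v) = v := (g : LV).apply_symm_apply v
theorem inv_ap (g : Om) (v : V) : ap g⁻¹ (ap g v) = v := (g : LV).symm_apply_apply v
theorem q_ap (g : Om) (v : V) : q (ap g v) = q v := O8_q (Om_le g.2) v
theorem B_ap (g : Om) (u v : V) : B (ap g u) (ap g v) = B u v := O8_B (Om_le g.2) u v
theorem ap_ne (g : Om) {v : V} (h : v ≠ 0) : ap g v ≠ 0 := (g : LV).map_ne_zero_iff.2 h

theorem pw_dec {l : List (ℕ × ℕ)} (h : l.all ok = true) (t n : ℕ) : ap (word l ^ t) (dec n) = dec ((ev l)^[t] n) := by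
  induction t generalizing n with
  | zero => rfl
  | succ t ih => rw [pow_succ, ap_mul, show ap (word l) (dec n) = _ from word_dec h n, ih, Function.iterate_succ_apply]

theorem pa (t n : ℕ) : ap (a ^ t) (dec n) = dec ((ev wa)^[t] n) := pw_dec (by decide) t n
theorem pb (t n : ℕ) : ap (b ^ t) (dec n) = dec ((ev wb)^[t] n) := pw_dec (by decide) t n
theorem pa1 (n : ℕ) : ap a (dec n) = dec (ev wa n) := word_dec (by decide) n
theorem pb1 (n : ℕ) : ap b (dec n) = dec (ev wb n) := word_dec (by decide) n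

theorem a5 : a ^ 5 = 1 := Subtype.ext (lin_ext fun n hn => (pa 5 n).trans (congrArg dec (by revert n; decide)))
theorem b5 : b ^ 5 = 1 := Subtype.ext (lin_ext fun n hn => (pb 5 n).trans (congrArg dec (by revert n; decide)))
theorem ab : Commute a b := by
  show word wa * word wb = word wb * word wa
  rw [← word_append, ← word_append]
  exact word_eq (by decide)
theorem sa : s * a * s⁻¹ = b := by
  show word ws * word wa * (word ws)⁻¹ = word wb
  rw [← word_reverse, ← word_append, ← word_append]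
  exact word_eq (by decide)
theorem sb : s * b * s⁻¹ = a := by
  show word ws * word wb * (word ws)⁻¹ = word wa
  rw [← word_reverse, ← word_append, ← word_append]
  exact word_eq (by decide)

attribute [local irreducible] a b s

/-- the elements of the Sylow subgroup -/
noncomputable def el (p : Fin 5 × Fin 5) : Om := a ^ p.1.1 * b ^ p.2.1
def ec (p : Fin 5 × Fin 5) (n : ℕ) : ℕ := (ev wa)^[p.1.1] ((ev wb)^[p.2.1] n)

theorem el_dec (p : Fin 5 × Fin 5) (n : ℕ) : ap (el p) (dec n) = dec (ec p n) := by rw [el, ap_mul, pb, pa, ec]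

private theorem ev_lt {l : List (ℕ × ℕ)} (h : ∀ n : Fin 256, ev l n < 256) : ∀ t n, n < 256 → (ev l)^[t] n < 256
  | 0, _, k => k
  | t + 1, n, k => ev_lt h t _ (h ⟨n, k⟩)

theorem ec_lt : ∀ (p : Fin 5 × Fin 5) (n : Fin 256), ec p n < 256 := fun p n =>
  ev_lt (by decide +kernel) _ _ (ev_lt (by decide +kernel) _ _ n.2)

theorem el_fix (p : Fin 5 × Fin 5) (n : Fin 256) : ap (el p) (dec n) = dec n ↔ ec p n = n :=
  ⟨fun h => dec_inj (ec_lt p n) n.2 ((el_dec p n).symm.trans h), fun h => by rw [el_dec, h]⟩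

theorem el_zero : el 0 = 1 := mul_one 1

theorem el_a (i : Fin 5) : el (i, 0) = a ^ i.1 := mul_one _
theorem el_b (j : Fin 5) : el (0, j) = b ^ j.1 := one_mul _
theorem el_a1 : el (1, 0) = a := (el_a 1).trans (pow_one a)

theorem el_add (p r : Fin 5 × Fin 5) : el (p + r) = el p * el r := by
  simp only [el, Prod.fst_add, Prod.snd_add, Fin.val_add, ← pow_eq_pow_mod _ a5, ← pow_eq_pow_mod _ b5, pow_add]
  exact (ab.pow_pow _ _).mul_mul_mul_comm _ _

theorem el_inj : Function.Injective el := fun p r h => by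
  have h1 := (el_dec p 3).symm.trans (h ▸ el_dec r 3)
  have h2 := dec_inj (ec_lt p 3) (ec_lt r 3) h1
  revert p r
  suffices k : ∀ p r : Fin 5 × Fin 5, ec p 3 = ec r 3 → p = r from fun p r _ _ => k p r
  decide +kernel

noncomputable def P0 : Subgroup Om where
  carrier := Set.range el
  one_mem' := ⟨0, el_zero⟩
  mul_mem' := by
    rintro _ _ ⟨p, rfl⟩ ⟨r, rfl⟩
    exact ⟨p + r, el_add p r⟩
  inv_mem' := by
    rintro _ ⟨p, rfl⟩
    exact ⟨-p, eq_inv_of_mul_eq_one_left (by rw [← el_add, neg_add_cancel, el_zero])⟩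

theorem card_P0 : Nat.card P0 = 25 := (Nat.card_range_of_injective el_inj).trans (by simp)
theorem a_mem : a ∈ P0 := ⟨(1, 0), (mul_one _).trans (pow_one a)⟩
theorem b_mem : b ∈ P0 := ⟨(0, 1), (one_mul _).trans (pow_one b)⟩
theorem fin_Om : Finite Om := Nat.finite_of_card_ne_zero (by rw [H245.O8Refl.card_Om]; decide)

theorem toP0 {Q : Subgroup Om} (h : IsPGroup 5 Q) : ∃ g : Om, ∀ u ∈ Q, g⁻¹ * u * g ∈ P0 := by
  haveI := fin_Om
  haveI : Fact (Nat.Prime 5) := ⟨by decide⟩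
  have h1 := card_mul_index P0
  rw [card_P0, H245.O8Refl.card_Om] at h1
  exact conj_le h le_rfl (by omega) fun W h2 h3 _ => le_antisymm h3 h2

theorem elt {f : Om} (h : orderOf f = 5) : ∃ (g : Om) (p : Fin 5 × Fin 5), p ≠ 0 ∧ f = g * el p * g⁻¹ := by
  obtain ⟨g, hg⟩ := toP0 (Q := zpowers f) (IsPGroup.of_card (n := 1) (by rw [Nat.card_zpowers, h]; rfl))
  obtain ⟨p, e⟩ := hg f (mem_zpowers f)
  have e' : f = g * el p * g⁻¹ := by rw [e]; group
  refine ⟨g, p, fun k => ?_, e'⟩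
  rw [e', k, el_zero, mul_one, mul_inv_cancel, orderOf_one] at h
  exact absurd h (by decide)

theorem syl {P : Subgroup Om} (h : Nat.card P = 25) : ∃ g : Om, P0.map (MulAut.conj g).toMonoidHom = P := by
  haveI := fin_Om
  obtain ⟨g, hg⟩ := toP0 (Q := P) (IsPGroup.of_card (n := 2) h)
  have h1 : P ≤ P0.map (MulAut.conj g).toMonoidHom := fun u hu => ⟨_, hg u hu, by simp [mul_assoc]⟩
  exact ⟨g, (eq_of_le_of_card_ge h1 (by rw [card_map_of_injective (MulAut.conj g).injective, card_P0, h])).symm⟩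

theorem cj_fix (g x : Om) (v : V) : ap (g * x * g⁻¹) (ap g v) = ap g v ↔ ap x v = v := by
  rw [ap_mul, inv_ap, ap_mul]
  exact (g : LV).injective.eq_iff

theorem surj (g : Om) (v : V) : ∃ n : Fin 256, ap g (dec n) = v :=
  let ⟨n, h, e⟩ := dec_surj (ap g⁻¹ v)
  ⟨⟨n, h⟩, by rw [e, ap_inv]⟩

theorem q0 {n : ℕ} : q (dec n) = 0 ↔ qn n = false := by rw [q_dec, cc_eq_zero_iff]
theorem B0 {m n : ℕ} : B (dec m) (dec n) = 0 ↔ Bn m n = false := by rw [B_dec, cc_eq_zero_iff]
theorem d0 {n : Fin 256} : dec n = 0 ↔ n = 0 := ⟨dec_eq_zero n, fun h => h ▸ dec_zero⟩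

/-- the fixed vectors -/
def fx (p : Fin 5 × Fin 5) : List (Fin 256) := (List.finRange 256).filter fun n => ec p n == n

theorem mem_fx {p : Fin 5 × Fin 5} {n : Fin 256} : n ∈ fx p ↔ ap (el p) (dec n) = dec n := by simp [fx, el_fix]

private def fy (p : Fin 5 × Fin 5) : List (Fin 256) :=
  cond (Nat.beq p.1 0) (cond (Nat.beq p.2 0) (List.finRange 256) [0, 1, 16, 17, 68, 69, 84, 85, 140, 141, 156, 157, 200, 201, 216, 217]) (cond (Nat.beq p.2 0) [0, 2, 32, 34, 76, 78, 108, 110, 136, 138, 168, 170, 196, 198, 228, 230] [0])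

private def tt (T n : ℕ) : ℕ := Nat.mod (Nat.shiftRight T (Nat.mul 8 n)) 256

private theorem it_eq {l : List (ℕ × ℕ)} {T : ℕ} (h : ∀ n : Fin 256, ev l n = tt T n) :
    ∀ t n, n < 256 → (ev l)^[t] n = (tt T)^[t] n ∧ (tt T)^[t] n < 256
  | 0, _, k => ⟨rfl, k⟩
  | t + 1, n, k => by
    rw [Function.iterate_succ_apply, Function.iterate_succ_apply, show ev l n = tt T n from h ⟨n, k⟩]
    exact it_eq h t _ (Nat.mod_lt _ (by decide))

private def tA : ℕ := 0x37ee35ec32eb30e96ab368b16fb66db462bb60b967be65bc3fe63de43ae338e117ce15cc12cb10c94a9348914f964d94429b4099479e459c1fc61dc41ac318c123fa21f826ff24fd7ea77ca57ba279a076af74ad73aa71a82bf229f02ef72cf503da01d806df04dd5e875c855b825980568f548d538a51880bd209d00ed70cd5e23be039e73ee53cbf66bd64ba63b861b76eb56cb26bb069ea33e831ef36ed34c21bc019c71ec51c9f469d449a439841974e954c924b9049ca13c811cf16cd14f62ff42df32af128ab72a970ae77ac75a37aa178a67fa47dfe27fc25fb22f920d60fd40dd30ad1088b5289508e578c55835a8158865f845dde07dc05db02d900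
private def tB : ℕ := 0x5756b1b05150b7b63130d7d63736d1d04746a1a04140a7a62120c7c62726c1c03938dfde3f3ed9d85f5eb9b85958bfbe2928cfce2f2ec9c84f4ea9a84948afae1514f3f21312f5f473729594757493920504e3e20302e5e463628584656483827b7a9d9c7d7c9b9a1d1cfbfa1b1afdfc6b6a8d8c6d6c8b8a0d0cebea0b0aedecbbba5d5cbdbc5b5adddc3b3adbda3d3cabaa4d4cadac4b4acdcc2b2acbca2d2cd5d43332d3d23534b3b25554b5b45352c5c42322c3c22524a3a24544a5a44342f9f81f1efffe19189f9e797899987f7ee9e80f0eefee09088f8e696889886f6e9796717091907776f1f01716f7f611108786616081806766e1e00706e7e60100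

private theorem fx_eq : fx = fy := funext fun p => by
  have h : ∀ p : Fin 5 × Fin 5, ((List.finRange 256).filter fun n => Nat.beq ((tt tA)^[p.1.1] ((tt tB)^[p.2.1] n.1)) n.1) = fy p := by
    decide +kernel
  have ha := it_eq (l := wa) (T := tA) (by decide +kernel)
  have hb := it_eq (l := wb) (T := tB) (by decide +kernel)
  refine Eq.trans (List.filter_congr fun n _ => Bool.eq_iff_iff.2 ?_) (h p)
  rw [ec, (hb _ _ n.2).1, (ha _ _ (hb _ _ n.2).2).1, Nat.beq_eq, beq_iff_eq]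

theorem k1 : ∀ p : Fin 5 × Fin 5, p ≠ 0 → Fintype.card {n : Fin 256 // ec p n = n} = 1 ∨
    Fintype.card {n : Fin 256 // ec p n = n} = 16 := by
  have e : ∀ p, Fintype.card {n : Fin 256 // ec p n = n} = (fx p).length := fun p => by
    rw [Fintype.card_subtype]
    refine Eq.trans (congrArg Finset.card (Finset.ext fun n => ?_))
      (List.toFinset_card_of_nodup ((List.nodup_finRange 256).filter fun n : Fin 256 => ec p n.1 == n.1))
    rw [Finset.mem_filter, List.mem_toFinset, fx, List.mem_filter, beq_iff_eq, and_iff_right (Finset.mem_univ n),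
      and_iff_right (List.mem_finRange n)]
  simp only [e, fx_eq]
  decide +kernel

theorem k2 : ∀ p : Fin 5 × Fin 5, p ≠ 0 → ∀ u ∈ fx p, ∀ w ∈ fx p, qn u = false → qn w = false → Bn u w = false →
    u = 0 ∨ w = 0 ∨ u = w := by
  have h : ∀ p : Fin 5 × Fin 5, p ≠ 0 → ((fy p).all fun u => (fy p).all fun w =>
    decide (qn u = false → qn w = false → Bn u w = false → u = 0 ∨ w = 0 ∨ u = w)) = true := by decide +kernel
  rw [fx_eq]
  exact fun p hp u hu w hw => of_decide_eq_true (List.all_eq_true.1 (List.all_eq_true.1 (h p hp) u hu) w hw)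

theorem k3 : ∀ p : Fin 5 × Fin 5, (∃ v ∈ fx p, v ≠ 0) → (p.1 = 0 ∨ p.2 = 0) ∧ (∃ u ∈ fx p, u ≠ 0 ∧ qn u = false) ∧
    ∃ u ∈ fx p, qn u = true ∧ ∃ w ∈ fx p, qn w = true ∧ Bn u w = true := by
  have h : ∀ p : Fin 5 × Fin 5, ((fy p).any fun v => decide (v ≠ 0)) = true → (p.1 = 0 ∨ p.2 = 0) ∧
    ((fy p).any fun u => decide (u ≠ 0 ∧ qn u = false)) = true ∧
      ((fy p).any fun u => qn u && (fy p).any fun w => qn w && Bn u w) = true := by decide +kernel
  simpa only [fx_eq, List.any_eq_true, decide_eq_true_eq, Bool.and_eq_true] using h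

theorem k4 : ∀ n : Fin 256, ev wa n = n → ev wb n = n → n = 0 := by decide +kernel

theorem k5 : ∀ n : Fin 256, qn n = false → n ≠ 0 → (∀ t : Fin 5, Bn n ((ev wb)^[t] 2) = false) → ∃ t : Fin 5, (ev wa)^[t] 1 = n := by
  decide +kernel

theorem k6 : ∀ n : Fin 256, qn n = false → n ≠ 0 → ev wa n = n → ∃ t : Fin 5, (ev wb)^[t] 2 = n := by decide +kernel

theorem k7 : ∀ n ∈ basis, ∃ l ∈ ((List.finRange 5).map (fun t => (ev wa)^[t.1] 1)).sublists,
    ∃ l' ∈ ((List.finRange 5).map (fun t => (ev wb)^[t.1] 2)).sublists, (l ++ l').foldr (· ^^^ ·) 0 = n := by decide +kernel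

theorem k8 : ∀ t r : Fin 5, (ev wa)^[t] ((ev wb)^[r] 2) = (ev wb)^[r] 2 := by decide +kernel

theorem wa_lt : ∀ n : Fin 256, ev wa n < 256 := fun n => ec_lt (1, 0) n
theorem wb_lt : ∀ n : Fin 256, ev wb n < 256 := fun n => ec_lt (0, 1) n

theorem both {g : Om} {v : V} (h1 : ap (g * a * g⁻¹) v = v) (h2 : ap (g * b * g⁻¹) v = v) : v = 0 := by
  obtain ⟨n, rfl⟩ := surj g v
  rw [cj_fix] at h1 h2
  rw [k4 n (dec_inj (wa_lt n) n.2 ((pa1 n).symm.trans h1)) (dec_inj (wb_lt n) n.2 ((pb1 n).symm.trans h2))]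
  exact (congrArg (ap g) dec_zero).trans (map_zero _)

theorem fix_list {g : LV} : ∀ l : List ℕ, (∀ n ∈ l, g (dec n) = dec n) → g (dec (l.foldr (· ^^^ ·) 0)) = dec (l.foldr (· ^^^ ·) 0)
  | [], _ => by rw [List.foldr_nil, dec_zero, map_zero]
  | n :: l, h => by
    rw [List.foldr_cons, dec_xor, map_add, h n List.mem_cons_self, fix_list l fun k hk => h k (List.mem_cons_of_mem _ hk)]

theorem comm_pow {g : LV} {x : Om} (h : g * x = x * g) (t : ℕ) (v : V) : g (ap (x ^ t) v) = ap (x ^ t) (g v) :=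
  LinearEquiv.congr_fun (Commute.pow_right (a := g) (b := (x : LV)) h t) v

/-- an isometry which commutes with `a` and is trivial on the fixed space of `a` is a power of `a` -/
theorem key {g : LV} (hg : g ∈ O8) (ha : g * a = a * g) (hb : ∀ t : Fin 5, g (dec ((ev wb)^[t] 2)) = dec ((ev wb)^[t] 2)) :
    ∃ t : Fin 5, g = (a ^ t.1 : Om) := by
  obtain ⟨n, hn, e⟩ := dec_surj (g (dec 1))
  obtain ⟨t, ht⟩ := k5 ⟨n, hn⟩ (q0.1 (by rw [e, O8_q hg]; exact q0.2 rfl))
    (fun k => g.map_ne_zero_iff.2 (mt (d0 (n := 1)).1 (by decide)) (e ▸ d0.2 k)) fun t => B0.1 (by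
      rw [e, ← hb, O8_B hg, B0]
      revert t
      decide)
  refine ⟨t, eq_of_inv_mul_eq_one (lin_ext fun c hc => ?_)⟩
  obtain ⟨l, hl, l', hl', rfl⟩ := k7 c hc
  refine fix_list _ fun k hk => g.symm_apply_eq.2 ?_
  rcases List.mem_append.1 hk with hk | hk
  · obtain ⟨r, -, rfl⟩ := List.mem_map.1 ((List.mem_sublists.1 hl).subset hk)
    rw [← pa, comm_pow ha, ← e, ← show (ev wa)^[t] 1 = n from ht, ← pa]
    exact LinearEquiv.congr_fun (congrArg Subtype.val (pow_mul_comm a t r)) _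
  · obtain ⟨r, -, rfl⟩ := List.mem_map.1 ((List.mem_sublists.1 hl').subset hk)
    rw [hb]
    exact (pa _ _).trans (congrArg dec (k8 t r))

theorem sing {v : V} (h : ap a v = v ∧ q v = 0 ∧ v ≠ 0) : ∃ t : Fin 5, dec ((ev wb)^[t] 2) = v := by
  obtain ⟨n, hn, rfl⟩ := dec_surj v
  exact (k6 ⟨n, hn⟩ (q0.1 h.2.1) (mt d0.2 h.2.2) (dec_inj (wa_lt ⟨n, hn⟩) hn ((pa1 n).symm.trans h.1))).imp fun _ => congrArg dec

theorem sing' (t : Fin 5) : ap a (dec ((ev wb)^[t] 2)) = dec ((ev wb)^[t] 2) ∧ q (dec ((ev wb)^[t] 2)) = 0 ∧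
    dec ((ev wb)^[t] 2) ≠ 0 :=
  ⟨(pa1 _).trans (congrArg dec (by revert t; decide)), q0.2 (by revert t; decide),
    pb t 2 ▸ ap_ne _ (mt (d0 (n := 2)).1 (by decide))⟩

theorem cent_a : Nat.card (centralizer ({a} : Set Om)) ∣ 300 := by
  let K : Subgroup LV := centralizer {(a : LV)} ⊓ O8
  have hK : ∀ g : K, ∀ v, (ap a (g.1 v) = g.1 v ∧ q (g.1 v) = 0 ∧ g.1 v ≠ 0) ↔ (ap a v = v ∧ q v = 0 ∧ v ≠ 0) := fun g v => by
    rw [O8_q g.2.2, g.1.map_ne_zero_iff, show ap a (g.1 v) = g.1 (ap a v) from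
      (LinearEquiv.congr_fun (mem_centralizer_singleton_iff.1 g.2.1) v).symm, g.1.injective.eq_iff]
  let φ : K →* Equiv.Perm {v : V // ap a v = v ∧ q v = 0 ∧ v ≠ 0} :=
    MonoidHom.mk' (fun g => H320.O8.sp g.1 _ (hK g)) fun _ _ => rfl
  have h1 : Nat.card {v : V // ap a v = v ∧ q v = 0 ∧ v ≠ 0} = 5 := by
    have e : ∀ n : Fin 256, (ev wa n = n ∧ qn n = false ∧ n ≠ 0) ↔ (ap a (dec n) = dec n ∧ q (dec n) = 0 ∧ dec n ≠ 0) :=
      fun n => and_congr (el_a1 ▸ (el_fix (1, 0) n).symm) (and_congr q0.symm d0.not.symm)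
    rw [← Nat.card_congr (Equiv.subtypeEquiv decE e), Nat.card_eq_fintype_card]
    decide +kernel
  have h2 : Nat.card φ.ker ∣ 5 := by
    have h3 : φ.ker.map K.subtype ≤ zpowers (a : LV) := by
      rintro _ ⟨g, hg, rfl⟩
      obtain ⟨t, ht⟩ := key g.2.2 (mem_centralizer_singleton_iff.1 g.2.1) fun t =>
        congrArg Subtype.val (Equiv.congr_fun (MonoidHom.mem_ker.1 hg) ⟨_, sing' t⟩)
      exact ⟨(t.1 : ℤ), (zpow_natCast _ _).trans ht.symm⟩
    have h4 := card_dvd_of_le h3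
    rw [card_map_of_injective K.subtype_injective, Nat.card_zpowers, orderOf_coe] at h4
    exact h4.trans (orderOf_dvd_of_pow_eq_one a5)
  have h3 := dvd_of_hom φ h2
  haveI : Finite {v : V // ap a v = v ∧ q v = 0 ∧ v ≠ 0} := Nat.finite_of_card_ne_zero (by omega)
  rw [Nat.card_perm, h1] at h3
  have hq : q (dec 76) ≠ 0 := mt q0.1 (by decide)
  have h4 : Om.relIndex K = 2 := by
    haveI := (Om.subgroupOf O8).normal_of_index_eq_two StdO8.CardC.relIndex_Om
    have h5 := relIndex_dvd_index_of_normal (Om.subgroupOf O8) (K.subgroupOf O8)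
    rw [relIndex_subgroupOf inf_le_right, show (Om.subgroupOf O8).index = 2 from StdO8.CardC.relIndex_Om] at h5
    refine ((Nat.dvd_prime Nat.prime_two).1 h5).resolve_left fun k => StdO8.Gen.refl_notMem _ hq (relIndex_eq_one.1 k
      ⟨mem_centralizer_singleton_iff.2 (lin_ext fun c hc => ?_), refl_mem_O hq⟩)
    show refl q _ hq (ap a (dec c)) = ap a (refl q _ hq (dec c))
    rw [pa1, StdO8.Gen.refl_dec, StdO8.Gen.refl_dec, pa1]
    exact congrArg dec (by revert c; decide)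
  have h5 := card_mul_index (Om.subgroupOf K)
  rw [show (Om.subgroupOf K).index = 2 from h4] at h5
  have h6 : Nat.card (centralizer ({a} : Set Om)) = Nat.card (Om.subgroupOf K) := Nat.card_congr
    ⟨fun g => ⟨⟨g.1.1, mem_centralizer_singleton_iff.2 (congrArg Subtype.val (mem_centralizer_singleton_iff.1 g.2)), Om_le g.1.2⟩,
      g.1.2⟩, fun g => ⟨⟨g.1.1, g.2⟩, mem_centralizer_singleton_iff.2 (Subtype.ext (mem_centralizer_singleton_iff.1 g.1.2.1))⟩,
      fun _ => rfl, fun _ => rfl⟩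
  rw [← h5, ← h6] at h3
  exact Nat.dvd_of_mul_dvd_mul_right two_pos h3

theorem split {p : Fin 5 × Fin 5} {v : V} (h0 : v ≠ 0) (h : ap (el p) v = v) : p.1 = 0 ∨ p.2 = 0 := by
  obtain ⟨n, hn, rfl⟩ := dec_surj v
  exact (k3 p ⟨⟨n, hn⟩, mem_fx.2 h, mt d0.2 h0⟩).1

theorem cent (h : BoxNt) {f : Om} (hf : orderOf f = 5) : Nat.card (centralizer ({f} : Set Om)) ∣ 300 := by
  obtain ⟨α, v, h0, hv⟩ := h.1 f hf
  obtain ⟨g, ⟨i, j⟩, hp, e⟩ := elt (f := α f) ((α.orderOf_eq f).trans hf)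
  obtain ⟨n, rfl⟩ := surj g v
  rw [e, cj_fix] at hv
  rw [← card_cent α, e, ← MulAut.conj_apply, card_cent]
  rcases split (fun k => h0 ((congrArg (ap g) k).trans (map_zero _))) hv with rfl | rfl
  · rw [el_b, cent_pow b5 fun k => hp (by rw [k]; rfl), ← sa, ← MulAut.conj_apply, card_cent]
    exact cent_a
  · rw [el_a, cent_pow a5 fun k => hp (by rw [k]; rfl)]
    exact cent_a

theorem cen_le {g : Om} (ha : g * a = a * g) (hb : g * b = b * g) : g ∈ P0 := by
  have c : ∀ v, ap g (ap a v) = ap a (ap g v) := LinearEquiv.congr_fun (congrArg Subtype.val ha)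
  obtain ⟨l, hl⟩ := sing (v := ap g (dec 2)) ⟨by rw [← c]; exact congrArg (ap g) (sing' 0).1, (q_ap _ _).trans (sing' 0).2.1,
    ap_ne _ (sing' 0).2.2⟩
  have c1 : Commute ((b ^ l.1)⁻¹ * g) a := (ab.symm.pow_left _).inv_left.mul_left ha
  have c2 : Commute ((b ^ l.1)⁻¹ * g) b := ((Commute.refl b).pow_left _).inv_left.mul_left hb
  obtain ⟨t, ht⟩ := key (Om_le ((b ^ l.1)⁻¹ * g).2) (congrArg Subtype.val c1) fun t => by
    rw [← pb, comm_pow (congrArg Subtype.val c2)]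
    exact congrArg (ap (b ^ t.1)) (by
      show ap (b ^ l.1)⁻¹ (ap g (dec 2)) = dec 2
      rw [← hl, ← pb, inv_ap])
  rw [inv_mul_eq_iff_eq_mul.1 (Subtype.ext ht)]
  exact mul_mem (pow_mem b_mem _) (pow_mem a_mem _)

theorem side {g x : Om} (hg : g ∈ normalizer (P0 : Set Om)) (hx : x ∈ P0) {v : V} (h0 : v ≠ 0) (hv : ap x v = v) :
    g * x * g⁻¹ ∈ zpowers a ∨ g * x * g⁻¹ ∈ zpowers b := by
  obtain ⟨⟨i, j⟩, e⟩ := (mem_normalizer_iff.1 hg x).1 hx
  rw [← e]
  rcases split (ap_ne g h0) (e ▸ (cj_fix g x v).2 hv) with rfl | rfl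
  · exact Or.inr (el_b j ▸ pow_mem (mem_zpowers b) _)
  · exact Or.inl (el_a i ▸ pow_mem (mem_zpowers a) _)

theorem not_both {g x : Om} {v : V} (h0 : v ≠ 0) (hv : ap x v = v) (h1 : g * a * g⁻¹ ∈ zpowers x) (h2 : g * b * g⁻¹ ∈ zpowers x) :
    False :=
  have h : zpowers x ≤ MulAction.stabilizer Om v := zpowers_le.2 hv
  h0 (both (h h1) (h h2))

theorem fa : dec 2 ≠ 0 ∧ ap a (dec 2) = dec 2 := ⟨(sing' 0).2.2, (sing' 0).1⟩
theorem fb : dec 1 ≠ 0 ∧ ap b (dec 1) = dec 1 := ⟨mt (d0 (n := 1)).1 (by decide), (pb1 1).trans (congrArg dec (by decide))⟩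

theorem aut4 {x : Om} (h : x ^ 5 = 1) (h1 : x ≠ 1) : Nat.card (MulAut (zpowers x)) = 4 := by
  haveI := fin_Om
  haveI : Fact (Nat.Prime 5) := ⟨by decide⟩
  rw [IsCyclic.card_mulAut, Nat.card_zpowers, orderOf_eq_prime h h1]
  rfl

theorem norm_P0 : Nat.card (normalizer (P0 : Set Om)) ∣ 800 := by
  haveI := fin_Om
  let K : Subgroup Om := normalizer (zpowers a : Set Om) ⊓ normalizer (zpowers b : Set Om)
  have hs : s ∈ normalizer (P0 : Set Om) := mem_normalizer_fintype (by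
    rintro _ ⟨p, rfl⟩
    rw [el, ← conj_mul, ← conj_pow, ← conj_pow, sa, sb]
    exact mul_mem (pow_mem b_mem _) (pow_mem a_mem _))
  have h1 : K.relIndex (normalizer (P0 : Set Om)) ∣ 2 := relIndex_dvd_two_iff.2 ⟨s, hs, fun g hg => by
    rcases side hg a_mem fa.1 fa.2 with k | k <;> rcases side hg b_mem fb.1 fb.2 with l | l
    · exact (not_both fa.1 fa.2 k l).elim
    · exact Or.inr ⟨mem_nrm k, mem_nrm l⟩
    · have e : ∀ x : Om, g * s * x * (g * s)⁻¹ = g * (s * x * s⁻¹) * g⁻¹ := fun x => by group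
      exact Or.inl ⟨mem_nrm (by rw [e, sa]; exact l), mem_nrm (by rw [e, sb]; exact k)⟩
    · exact (not_both fb.1 fb.2 k l).elim⟩
  let φ := (((zpowers a).normalizerMonoidHom.comp (inclusion (inf_le_left : K ≤ _))).prod
    ((zpowers b).normalizerMonoidHom.comp (inclusion (inf_le_right : K ≤ _))))
  have h2 : Nat.card φ.ker ∣ 25 := by
    rw [← card_map_of_injective K.subtype_injective]
    refine (card_dvd_of_le ?_).trans card_P0.dvd
    rintro _ ⟨g, hg, rfl⟩
    have h3 := Prod.ext_iff.1 (MonoidHom.mem_ker.1 hg)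
    exact cen_le (mul_inv_eq_iff_eq_mul.1 (congrArg Subtype.val (MulEquiv.congr_fun h3.1 ⟨a, mem_zpowers a⟩)))
      (mul_inv_eq_iff_eq_mul.1 (congrArg Subtype.val (MulEquiv.congr_fun h3.2 ⟨b, mem_zpowers b⟩)))
  have h3 := dvd_of_hom φ h2
  rw [Nat.card_prod, aut4 a5 fun k => fb.1 (both (g := 1) (by rw [k]; rfl) (by simpa using fb.2)),
    aut4 b5 fun k => fa.1 (both (g := 1) (by simpa using fa.2) (by rw [k]; rfl))] at h3
  rw [← card_mul_index (K.subgroupOf _)]
  exact Nat.mul_dvd_mul ((card_comap_dvd_of_injective K _ (subtype_injective _)).trans h3) h1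

end Five

attribute [local irreducible] Five.a Five.b Five.s in
open Five Subgroup StdO8.Model StdO8.Code in
theorem boxC5_of (h : BoxNt) : BoxC5 := by
  haveI := fin_Om
  haveI : Fact (Nat.Prime 5) := ⟨by decide⟩
  refine ⟨fun f hf => ?_, fun P hP v hv => ?_, fun P hP => ?_⟩
  · have hc := cent h hf
    obtain ⟨g, p, hp, rfl⟩ := elt hf
    refine ⟨?_, hc, fun u w hu hw h1 h2 h3 => ?_, fun ⟨v, h0, hv⟩ k hk => ?_⟩
    · rw [nf, ← Nat.card_congr (Equiv.subtypeEquiv (p := fun n : Fin 256 => ec p n = n) (H320.O8.decE.trans (g : H320.O8.LV).toEquiv)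
        fun n => ((cj_fix g _ _).trans (el_fix p n)).symm), Nat.card_eq_fintype_card]
      exact k1 p hp
    · obtain ⟨u, rfl⟩ := surj g u
      obtain ⟨w, rfl⟩ := surj g w
      rcases k2 p hp u (mem_fx.2 ((cj_fix _ _ _).1 hu)) w (mem_fx.2 ((cj_fix _ _ _).1 hw)) (q0.1 (q_ap g _ ▸ h1)) (q0.1 (q_ap g _ ▸ h2))
        (B0.1 (B_ap g _ _ ▸ h3)) with e | e | e
      · exact Or.inl ((congrArg (ap g) (d0.2 e)).trans (map_zero _))
      · exact Or.inr (Or.inl ((congrArg (ap g) (d0.2 e)).trans (map_zero _)))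
      · exact Or.inr (Or.inr (e ▸ rfl))
    · obtain ⟨v, rfl⟩ := surj g v
      obtain ⟨-, ⟨x, x1, x2, x3⟩, u, u1, u2, w, w1, w2, w3⟩ := k3 p ⟨v, mem_fx.2 ((cj_fix _ _ _).1 hv),
        fun e => h0 ((congrArg (ap g) (d0.2 e)).trans (map_zero _))⟩
      have fu := (cj_fix g _ _).2 (mem_fx.1 u1)
      have fw := (cj_fix g _ _).2 (mem_fx.1 w1)
      have qu : q (ap g (dec u)) = 1 := by rw [q_ap, q_dec, u2]; rfl
      rcases (show k = 0 ∨ k = 1 ∨ k = 2 by omega) with rfl | rfl | rfl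
      · exact ⟨_, Or.inl ⟨rfl, ap g (dec x), ap_ne g (mt d0.1 x2), (q_ap g _).trans (q0.2 x3), rfl⟩,
          fun _ e => e ▸ (cj_fix g _ _).2 (mem_fx.1 x1)⟩
      · exact ⟨_, Or.inr (Or.inl ⟨rfl, _, qu, rfl⟩), fun _ e => e ▸ fu⟩
      · refine ⟨_, Or.inr (Or.inr ⟨rfl, _, ap g (dec w), qu, by rw [q_ap, q_dec, w2]; rfl, by rw [B_ap, B_dec, w3]; rfl, rfl⟩), ?_⟩
        rintro _ (rfl | rfl | rfl)
        · exact fu
        · exact fw
        · exact (map_add _ _ _).trans (congrArg₂ (· + ·) fu fw)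
  · obtain ⟨Q, hQ⟩ := Sylow.exists_subgroup_card_pow_prime 5 (n := 2) hP
    obtain ⟨g, e⟩ := syl (P := Q.map P.subtype) ((card_map_of_injective P.subtype_injective).trans hQ)
    have k : ∀ x ∈ P0, g * x * g⁻¹ ∈ P := fun x hx => map_subtype_le Q (e ▸ mem_map_of_mem _ hx)
    exact both (hv _ (k a a_mem) (by rw [conj_pow, a5]; group)) (hv _ (k b b_mem) (by rw [conj_pow, b5]; group))
  · obtain ⟨g, rfl⟩ := syl hP
    refine ⟨?_, ⟨ap g (dec 76), ⟨g * a * g⁻¹, mem_map_of_mem _ a_mem, fun e => fb.1 (both (g := 1) ?_ (by simpa using fb.2)),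
      (cj_fix _ _ _).2 ((pa1 _).trans (congrArg dec (by decide)))⟩, by rw [q_ap, q_dec]; rfl⟩, ap g (dec 77), ?_,
      by rw [q_ap, q_dec]; rfl⟩
    · rw [← map_equiv_normalizer_eq, card_map_of_injective (MulAut.conj g).injective]
      exact norm_P0
    · rw [conj_eq_one_iff.1 e]
      rfl
    · rintro ⟨_, ⟨_, ⟨p, rfl⟩, rfl⟩, h1, h2⟩
      have h3 := (el_fix p 77).1 ((cj_fix g _ _).1 h2)
      obtain rfl : p = 0 := by
        revert p
        suffices k : ∀ p : Fin 5 × Fin 5, ec p 77 = 77 → p = 0 from fun p _ _ => k p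
        decide +kernel
      exact h1 ((congrArg _ el_zero).trans (map_one (MulAut.conj g).toMonoidHom))

end Cfsg.Agent.SM.O8.Two

private theorem dce_8b96bf1854f2 : _root_.True := by
  try have : _root_.True := by simp only [_root_.Cfsg.Agent.SM.O8.Two.Five.fx.eq_1]
  try have : _root_.True := by simp only [_root_.Cfsg.Agent.SM.O8.Two.nf.eq_1]
  try have : _root_.True := by simp only [_root_.Cfsg.Agent.SM.O8.Two.Five.ec.eq_1]
  try have : _root_.True := by simp only [_root_.Cfsg.Agent.SM.O8.Two.Five.el.eq_1]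
  exact _root_.True.intro
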